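import Mathlib

/-!
Exact differentials on the line with prescribed poles: `V = L (k[X]_{≤ N})` with `ker L = k·E`.
-/

set_option autoImplicit false

open Polynomial

namespace Groth.Agent.DivWronsk

variable {k : Type*} [Field k] {m : ℕ} (r : Fin m → k) (a : Fin m → ℕ)

/-- `∏ (X - r j)`. -/
noncomputable def P : k[X] := ∏ j, (X - C (r j))
/-- `∏ (X - r j) ^ a j`. -/
noncomputable def E : k[X] := ∏ j, (X - C (r j)) ^ a j
/-- `∏ (X - r j) ^ (a j + 1)`. -/
noncomputable def D : k[X] := ∏ j, (X - C (r j)) ^ (a j + 1)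
/-- `D` without the `i`-th factor. -/
noncomputable def Di (i : Fin m) : k[X] :=
  ∏ j ∈ Finset.univ.erase i, (X - C (r j)) ^ (a j + 1)
/-- `E` without the `i`-th factor. -/
noncomputable def Ei (i : Fin m) : k[X] := ∏ j ∈ Finset.univ.erase i, (X - C (r j)) ^ a j
/-- `P` without the `i`-th factor. -/
noncomputable def Pi' (i : Fin m) : k[X] := ∏ j ∈ Finset.univ.erase i, (X - C (r j))
/-- The logarithmic derivative numerator. -/
noncomputable def S : k[X] := ∑ j, C (a j : k) * Pi' r j

/-- `F ↦ (F / E)' D`. -/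
noncomputable def L : k[X] →ₗ[k] k[X] where
  toFun F := derivative F * P r - F * S r a
  map_add' F G := by rw [map_add]; ring
  map_smul' c F := by rw [derivative_smul, RingHom.id_apply, smul_sub, smul_mul_assoc, smul_mul_assoc]

theorem L_apply (F : k[X]) : L r a F = derivative F * P r - F * S r a := rfl

theorem E_mul_P : E r a * P r = D r a := by
  simp [E, P, D, ← Finset.prod_mul_distrib, pow_succ]

theorem split_P (i : Fin m) : (X - C (r i)) * Pi' r i = P r := by
  rw [P, Pi']
  exact Finset.mul_prod_erase Finset.univ (fun j => X - C (r j)) (Finset.mem_univ i)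

theorem split_E (i : Fin m) : (X - C (r i)) ^ a i * Ei r a i = E r a :=
  Finset.mul_prod_erase Finset.univ (fun j => (X - C (r j)) ^ a j) (Finset.mem_univ i)

theorem Ei_mul_Pi (i : Fin m) : Ei r a i * Pi' r i = Di r a i := by
  simp [Ei, Pi', Di, ← Finset.prod_mul_distrib, pow_succ]

theorem L_mul (F G : k[X]) : L r a (F * G) = L r a F * G + F * derivative G * P r := by
  simp only [L_apply, derivative_mul]; ring

theorem derivative_E_mul_P : derivative (E r a) * P r = E r a * S r a := by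
  classical
  rw [E, S, derivative_prod_finset, Finset.sum_mul, Finset.mul_sum]
  refine Finset.sum_congr rfl fun i _ => ?_
  rw [derivative_X_sub_C_pow, ← split_P r i]
  rw [← Finset.mul_prod_erase Finset.univ (fun j => (X - C (r j)) ^ a j) (Finset.mem_univ i)]
  rcases Nat.eq_zero_or_pos (a i) with h | h
  · simp [h]
  · have : a i = a i - 1 + 1 := by omega
    rw [this, pow_succ]
    simp only [Nat.add_sub_cancel]
    ring

theorem L_E : L r a (E r a) = 0 := by rw [L_apply, derivative_E_mul_P, sub_self]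

theorem L_E_mul (G : k[X]) : L r a (E r a * G) = D r a * derivative G := by
  rw [L_mul, L_E, zero_mul, zero_add, ← E_mul_P]; ring

theorem L_Ei_mul (i : Fin m) (s : ℕ) :
    L r a (Ei r a i * (X - C (r i)) ^ s) =
      C ((s : k) - a i) * (Di r a i * (X - C (r i)) ^ s) := by
  have hne : (X - C (r i)) ^ (a i + 1) ≠ 0 := pow_ne_zero _ (X_sub_C_ne_zero _)
  refine mul_left_cancel₀ hne ?_
  have h1 := L_mul r a (Ei r a i * (X - C (r i)) ^ s) ((X - C (r i)) ^ a i)
  have h2 : Ei r a i * (X - C (r i)) ^ s * (X - C (r i)) ^ a i = E r a * (X - C (r i)) ^ s := by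
    rw [← split_E r a i]; ring
  have hd : ∀ n : ℕ, derivative ((X - C (r i)) ^ n) * P r =
      C (n : k) * (X - C (r i)) ^ n * Pi' r i := fun n => by
    rw [derivative_X_sub_C_pow, ← split_P r i]
    rcases Nat.eq_zero_or_pos n with h | h
    · simp [h]
    · conv_rhs => rw [show n = n - 1 + 1 by omega, pow_succ]
      rw [show ((n - 1 + 1 : ℕ) : k) = (n : k) by congr 1; omega]
      ring
  rw [h2, L_E_mul, ← E_mul_P, mul_assoc (E r a), mul_comm (P r), hd,
    mul_assoc (Ei r a i * _), hd, ← split_E r a i] at h1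
  rw [← Ei_mul_Pi r a i, map_sub, pow_succ]
  linear_combination (-(X - C (r i))) * h1

theorem natDegree_prod_pow (s : Finset (Fin m)) (e : Fin m → ℕ) :
    (∏ j ∈ s, (X - C (r j)) ^ e j).natDegree = ∑ j ∈ s, e j := by
  rw [natDegree_prod_of_monic]
  · simp
  · exact fun j _ => (monic_X_sub_C _).pow _

theorem monic_E : (E r a).Monic := monic_prod_of_monic _ _ fun j _ => (monic_X_sub_C _).pow _

theorem natDegree_E : (E r a).natDegree = ∑ j, a j := natDegree_prod_pow r _ a

theorem mem_degreeLT_iff' {F : k[X]} {n : ℕ} :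
    F ∈ degreeLT k n ↔ ∀ j, n ≤ j → F.coeff j = 0 := by
  rw [mem_degreeLT, degree_lt_iff_coeff_zero]

theorem mul_mem_degreeLT {F : k[X]} {n : ℕ} (hF : F ∈ degreeLT k n) (p : k[X]) :
    p * F ∈ degreeLT k (p.natDegree + n) := by
  rw [mem_degreeLT] at hF ⊢
  by_cases h : F = 0
  · simp [h]
  · refine lt_of_le_of_lt (degree_mul_le _ _) ?_
    have hF' := (natDegree_lt_iff_degree_lt h).mpr hF
    rw [degree_eq_natDegree h]
    refine lt_of_le_of_lt (add_le_add_left degree_le_natDegree _) ?_
    exact_mod_cast Nat.add_lt_add_left hF' p.natDegree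

theorem dvd_one_degreeLT {p F : k[X]} {n : ℕ} (hp : p.Monic) (h : p ∣ F) (hF : F ∈ degreeLT k n) :
    ∃ G ∈ degreeLT k (n - p.natDegree), p * G = F := by
  obtain ⟨G, rfl⟩ := h
  refine ⟨G, ?_, rfl⟩
  rw [mem_degreeLT] at hF ⊢
  by_cases hG : G = 0
  · simp [hG]
  · have h1 := (natDegree_lt_iff_degree_lt (mul_ne_zero hp.ne_zero hG)).mpr hF
    rw [hp.natDegree_mul' hG] at h1
    exact (natDegree_lt_iff_degree_lt hG).mp (by omega)

/-- `degreeLT n` is spanned by powers of `X - c`. -/
theorem degreeLT_le_of_pow_mem (c : k) (n : ℕ) (M : Submodule k k[X])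
    (h : ∀ s < n, (X - C c) ^ s ∈ M) : degreeLT k n ≤ M := by
  intro F hF
  rw [← sum_taylor_eq F c, Polynomial.sum]
  refine Submodule.sum_mem _ fun s hs => ?_
  rw [← smul_eq_C_mul]
  refine M.smul_mem _ (h s ?_)
  have h0 : taylor c F ≠ 0 := fun h0 => by simp [h0] at hs
  have hF0 : F ≠ 0 := fun hF0 => by simp [hF0] at h0
  have h1 := le_natDegree_of_mem_supp s hs
  rw [natDegree_taylor] at h1
  exact lt_of_le_of_lt h1 ((natDegree_lt_iff_degree_lt hF0).mpr (mem_degreeLT.mp hF))

/-- Partial fractions. -/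
theorem exists_decomp (hr : Function.Injective r) (G : k[X]) (hG : G ∈ degreeLT k (∑ j, a j)) :
    G ∈ ⨆ i, (degreeLT k (a i)).map (LinearMap.mulLeft k (Ei r a i)) := by
  classical
  rcases Nat.eq_zero_or_pos m with hm | hm
  · subst hm
    have : G = 0 := by simpa [mem_degreeLT] using hG
    simp [this]
  haveI : Nonempty (Fin m) := ⟨⟨0, hm⟩⟩
  have hco : Pairwise (Function.onFun IsCoprime fun j => (X - C (r j)) ^ a j) := fun i j hij =>
    (pairwise_coprime_X_sub_C hr hij).pow
  obtain ⟨μ, hμ⟩ := exists_sum_eq_one_iff_pairwise_coprime'.mpr hco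
  have hμ' : ∑ i, μ i * Ei r a i = 1 := by
    rw [← hμ]
    refine Finset.sum_congr rfl fun i _ => ?_
    rw [Ei, Finset.compl_singleton]
  let Q : Fin m → k[X] := fun i => (G * μ i) %ₘ ((X - C (r i)) ^ a i)
  have hQ : ∀ i, Q i ∈ degreeLT k (a i) := fun i => by
    rw [mem_degreeLT]
    have h1 := degree_modByMonic_lt (G * μ i) ((monic_X_sub_C (r i)).pow (a i))
    rwa [degree_pow, degree_X_sub_C, nsmul_one] at h1
  have hG' : G = ∑ i, Ei r a i * Q i := by
    have hdvd : E r a ∣ G - ∑ i, Ei r a i * Q i := by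
      have : G - ∑ i, Ei r a i * Q i = ∑ i, Ei r a i * (G * μ i - Q i) := by
        simp only [mul_sub, Finset.sum_sub_distrib]
        congr 1
        rw [show ∑ i, Ei r a i * (G * μ i) = G * ∑ i, μ i * Ei r a i by
          rw [Finset.mul_sum]; exact Finset.sum_congr rfl fun i _ => by ring, hμ', mul_one]
      rw [this]
      refine Finset.dvd_sum fun i _ => ?_
      rw [← split_E r a i, mul_comm ((X - C (r i)) ^ a i)]
      refine mul_dvd_mul_left _ ⟨(G * μ i) /ₘ ((X - C (r i)) ^ a i), ?_⟩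
      simp only [Q]
      rw [sub_eq_iff_eq_add']
      exact (modByMonic_add_div _ _).symm
    refine sub_eq_zero.mp (eq_zero_of_dvd_of_degree_lt hdvd ?_)
    rw [degree_eq_natDegree (monic_E r a).ne_zero, natDegree_E, ← mem_degreeLT]
    refine Submodule.sub_mem _ hG (Submodule.sum_mem _ fun i _ => ?_)
    have h2 := mul_mem_degreeLT (hQ i) (Ei r a i)
    rwa [show (Ei r a i).natDegree + a i = ∑ j, a j by
      rw [Ei, natDegree_prod_pow, Finset.sum_erase_add _ _ (Finset.mem_univ i)]] at h2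
  rw [hG']
  exact Submodule.sum_mem _ fun i _ =>
    Submodule.mem_iSup_of_mem i ⟨Q i, hQ i, rfl⟩

variable [CharZero k] (b : ℕ)

/-- The space of the statements. -/
noncomputable def V : Submodule k k[X] :=
  (degreeLT k b).map (LinearMap.mulLeft k (D r a)) ⊔
    ⨆ i, (degreeLT k (a i)).map (LinearMap.mulLeft k (Di r a i))

theorem L_Ei_mem_V (i : Fin m) (Q : k[X]) (hQ : Q ∈ degreeLT k (a i)) :
    L r a (Ei r a i * Q) ∈ V r a b := by
  refine degreeLT_le_of_pow_mem (r i) (a i)
    ((V r a b).comap (L r a ∘ₗ LinearMap.mulLeft k (Ei r a i))) (fun s hs => ?_) hQ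
  rw [Submodule.mem_comap, LinearMap.comp_apply, LinearMap.mulLeft_apply, L_Ei_mul, ← smul_eq_C_mul]
  refine Submodule.smul_mem _ _ (Submodule.mem_sup_right (Submodule.mem_iSup_of_mem i
    ⟨_, mem_degreeLT.mpr ?_, rfl⟩))
  rw [degree_pow, degree_X_sub_C, nsmul_one]
  exact_mod_cast hs

theorem exists_EQ_add (hr : Function.Injective r) (c : ℕ) (G : k[X])
    (hG : G ∈ degreeLT k ((∑ j, a j) + c)) :
    ∃ Q ∈ degreeLT k c, G - E r a * Q ∈
      ⨆ i, (degreeLT k (a i)).map (LinearMap.mulLeft k (Ei r a i)) := by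
  refine ⟨G /ₘ E r a, ?_, exists_decomp r a hr _ ?_⟩
  · rw [mem_degreeLT]
    by_cases h0 : G /ₘ E r a = 0
    · simp [h0]
    · have hG0 : G ≠ 0 := fun h => h0 (by simp [h])
      have h1 := (natDegree_lt_iff_degree_lt hG0).mpr (mem_degreeLT.mp hG)
      refine (natDegree_lt_iff_degree_lt h0).mp ?_
      rw [natDegree_divByMonic _ (monic_E r a), natDegree_E]
      rcases Nat.eq_zero_or_pos c with hc | hc
      · exfalso
        refine h0 (divByMonic_eq_zero_iff (monic_E r a) |>.mpr ?_)
        rw [degree_eq_natDegree (monic_E r a).ne_zero, natDegree_E]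
        simpa [hc] using mem_degreeLT.mp hG
      · omega
  · rw [mem_degreeLT, ← natDegree_E r a, ← degree_eq_natDegree (monic_E r a).ne_zero,
      ← eq_sub_of_add_eq (modByMonic_add_div G (E r a))]
    exact degree_modByMonic_lt _ (monic_E r a)

theorem map_L_eq_V (hr : Function.Injective r) :
    (degreeLT k ((∑ j, a j) + b + 1)).map (L r a) = V r a b := by
  apply le_antisymm
  · rintro _ ⟨G, hG, rfl⟩
    obtain ⟨Q, hQ, hGQ⟩ := exists_EQ_add r a hr (b + 1) G hG
    have h1 : L r a (E r a * Q) ∈ V r a b := by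
      rw [L_E_mul]
      refine Submodule.mem_sup_left ⟨derivative Q, mem_degreeLT.mpr ?_, rfl⟩
      by_cases h0 : derivative Q = 0
      · simp [h0]
      · have hQ0 : Q ≠ 0 := fun h => h0 (by simp [h])
        have := (natDegree_lt_iff_degree_lt hQ0).mpr (mem_degreeLT.mp hQ)
        refine (natDegree_lt_iff_degree_lt h0).mp ?_
        have h2 := natDegree_derivative_lt (p := Q) (fun h => h0 (derivative_of_natDegree_zero h))
        omega
    have h3 : L r a (G - E r a * Q) ∈ V r a b := by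
      refine (iSup_le fun i => ?_ : (⨆ i, (degreeLT k (a i)).map
        (LinearMap.mulLeft k (Ei r a i))) ≤ (V r a b).comap (L r a)) hGQ
      rintro _ ⟨R, hR, rfl⟩
      exact L_Ei_mem_V r a b i R hR
    have := Submodule.add_mem _ h3 h1
    rwa [← map_add, sub_add_cancel] at this
  · refine sup_le ?_ (iSup_le fun i => ?_)
    · rintro _ ⟨Q, hQ, rfl⟩
      refine degreeLT_le_of_pow_mem 0 b
        (((degreeLT k ((∑ j, a j) + b + 1)).map (L r a)).comap (LinearMap.mulLeft k (D r a)))
        (fun s hs => ?_) hQ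
      refine ⟨((s : k) + 1)⁻¹ • (E r a * X ^ (s + 1)), Submodule.smul_mem _ _ ?_, ?_⟩
      · have h1 : E r a * X ^ (s + 1) ∈ degreeLT k ((E r a).natDegree + (s + 2)) := by
          refine mul_mem_degreeLT (mem_degreeLT.mpr ?_) _
          rw [degree_X_pow]; exact_mod_cast Nat.lt_succ_self (s + 1)
        refine degreeLT_mono ?_ h1
        rw [natDegree_E]; omega
      · rw [map_smul, L_E_mul, LinearMap.mulLeft_apply, derivative_X_pow, Nat.add_sub_cancel,
          C_0, sub_zero, smul_eq_C_mul, Nat.cast_add, Nat.cast_one, ← mul_assoc (D r a),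
          ← mul_assoc, mul_comm (D r a) (C _), ← mul_assoc, ← C_mul,
          inv_mul_cancel₀ (Nat.cast_add_one_ne_zero s), C_1, one_mul]
    · rintro _ ⟨Q, hQ, rfl⟩
      refine degreeLT_le_of_pow_mem (r i) (a i)
        (((degreeLT k ((∑ j, a j) + b + 1)).map (L r a)).comap (LinearMap.mulLeft k (Di r a i)))
        (fun s hs => ?_) hQ
      refine ⟨((s : k) - a i)⁻¹ • (Ei r a i * (X - C (r i)) ^ s), Submodule.smul_mem _ _ ?_, ?_⟩
      · have h1 : Ei r a i * (X - C (r i)) ^ s ∈ degreeLT k ((Ei r a i).natDegree + a i) := by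
          refine mul_mem_degreeLT (mem_degreeLT.mpr ?_) _
          rw [degree_pow, degree_X_sub_C, nsmul_one]; exact_mod_cast hs
        refine degreeLT_mono ?_ h1
        rw [Ei, natDegree_prod_pow, Finset.sum_erase_add _ _ (Finset.mem_univ i)]; omega
      · rw [map_smul, L_Ei_mul, LinearMap.mulLeft_apply, smul_eq_C_mul, ← mul_assoc, ← C_mul,
          inv_mul_cancel₀ (sub_ne_zero.mpr (by exact_mod_cast hs.ne)), C_1, one_mul]

end Groth.Agent.DivWronsk
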