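import Groth.Agent.DivWronsk.Spaces

/-!
Weights of hyperplanes of `V`.
-/

set_option autoImplicit false

open Polynomial

namespace Groth.Agent.DivWronsk

variable {k : Type*} [Field k] {m : ℕ} (r : Fin m → k) (a : Fin m → ℕ)

theorem finrank_inf_hyperplane {W : Type*} [AddCommGroup W] [Module k W] (V V₁ T : Submodule k W)
    [FiniteDimensional k V] (hV₁ : V₁ ≤ V)
    (hfin : Module.finrank k V₁ + 1 = Module.finrank k V) [Decidable (V ⊓ T ≤ V₁)] :
    Module.finrank k ↥(V₁ ⊓ T) + (if V ⊓ T ≤ V₁ then 0 else 1) = Module.finrank k ↥(V ⊓ T) := by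
  haveI : FiniteDimensional k V₁ := Submodule.finiteDimensional_of_le hV₁
  haveI : FiniteDimensional k ↥(V ⊓ T) := Submodule.finiteDimensional_of_le inf_le_left
  have he : V₁ ⊓ (V ⊓ T) = V₁ ⊓ T := by rw [← inf_assoc, inf_eq_left.mpr hV₁]
  by_cases h : V ⊓ T ≤ V₁
  · rw [if_pos h, ← he, inf_eq_right.mpr h, add_zero]
  · rw [if_neg h]
    have h1 := Submodule.finrank_sup_add_finrank_inf_eq V₁ (V ⊓ T)
    have h2 : V₁ ⊔ V ⊓ T = V := by
      refine Submodule.eq_of_le_of_finrank_le (sup_le hV₁ inf_le_left) ?_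
      have hlt : V₁ < V₁ ⊔ V ⊓ T :=
        lt_of_le_of_ne le_sup_left fun h0 => h (le_sup_right.trans h0.ge)
      have := Submodule.finrank_lt_finrank_of_lt hlt
      omega
    rw [h2, he] at h1
    omega

theorem sum_finrank_hyperplane {W : Type*} [AddCommGroup W] [Module k W] (V V₁ : Submodule k W)
    [FiniteDimensional k V] (hV₁ : V₁ ≤ V)
    (hfin : Module.finrank k V₁ + 1 = Module.finrank k V) (T : ℕ → Submodule k W)
    (hT : Antitone T) (d n₁ n₂ : ℕ) (hn₁ : n₁ ≤ d) (h₁ : 1 ≤ n₁ → ¬ V ⊓ T n₁ ≤ V₁)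
    (h₂ : n₂ < d → V ⊓ T (n₂ + 1) ≤ V₁) :
    ∃ c, n₁ ≤ c ∧ c ≤ n₂ ∧ (∑ n ∈ Finset.range d, Module.finrank k ↥(V₁ ⊓ T (n + 1))) + c =
      ∑ n ∈ Finset.range d, Module.finrank k ↥(V ⊓ T (n + 1)) ∨ n₂ < n₁ := by
  classical
  refine ⟨((Finset.range d).filter fun n => ¬ V ⊓ T (n + 1) ≤ V₁).card, ?_⟩
  left
  refine ⟨?_, ?_, ?_⟩
  · refine le_of_eq_of_le (Finset.card_range n₁).symm (Finset.card_le_card fun n hn => ?_)
    rw [Finset.mem_range] at hn
    rw [Finset.mem_filter, Finset.mem_range]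
    exact ⟨by omega, fun h => h₁ (by omega) ((inf_le_inf_left V (hT (by omega))).trans h)⟩
  · refine le_of_le_of_eq (Finset.card_le_card fun n hn => ?_) (Finset.card_range n₂)
    rw [Finset.mem_filter, Finset.mem_range] at hn
    rw [Finset.mem_range]
    by_contra hcon
    exact hn.2 ((inf_le_inf_left V (hT (by omega))).trans (h₂ (by omega)))
  · rw [Finset.card_filter, ← Finset.sum_add_distrib]
    refine Finset.sum_congr rfl fun n _ => ?_
    rw [← finrank_inf_hyperplane V V₁ (T (n + 1)) hV₁ hfin]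
    by_cases h : V ⊓ T (n + 1) ≤ V₁ <;> simp [h]

theorem sum_orders (N e d : ℕ) (he : e ≤ N) (hd : N ≤ d + 1) (hd' : N ≤ d ∨ e = N) :
    ∑ n ∈ Finset.range d, (if n + 1 ≤ e then N - (n + 1) else N + 1 - (n + 1)) =
      N.choose 2 + (N - e) := by
  have h0 : ∀ n, (if n + 1 ≤ e then N - (n + 1) else N + 1 - (n + 1)) =
      (N - 1 - n) + if e ≤ n ∧ n < N then 1 else 0 := fun n => by split_ifs <;> omega
  simp only [h0, Finset.sum_add_distrib]
  congr 1
  · rw [Nat.choose_two_right, ← Finset.sum_range_id, ← Finset.sum_range_reflect (fun n => n) N]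
    rcases le_total d N with h | h
    · refine Finset.sum_subset (Finset.range_subset_range.mpr h) fun n hn hn' => ?_
      simp only [Finset.mem_range] at hn hn'
      omega
    · refine (Finset.sum_subset (Finset.range_subset_range.mpr h) fun n hn hn' => ?_).symm
      simp only [Finset.mem_range] at hn hn'
      omega
  · rw [← Finset.card_filter,
      show (Finset.range d).filter (fun n => e ≤ n ∧ n < N) = Finset.Ico e (min N d) by
        ext n; simp only [Finset.mem_filter, Finset.mem_range, Finset.mem_Ico]; omega,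
      Nat.card_Ico]
    omega

theorem dvdAt_antitone (q : k) : Antitone (dvdAt q) := fun n n' h F hF =>
  mem_dvdAt.mpr (dvd_trans (pow_dvd_pow _ h) (mem_dvdAt.mp hF))

theorem pow_mem_degreeLT (q : k) {n N : ℕ} (h : n < N) : (X - C q) ^ n ∈ degreeLT k N := by
  rw [mem_degreeLT, degree_pow, degree_X_sub_C, nsmul_one]
  exact_mod_cast h

theorem eval_L_pow (q : k) (n : ℕ) (p : k) :
    (L r a ((X - C q) ^ (n + 1))).eval p =
      (p - q) ^ n * (((n + 1 : ℕ) : k) * (P r).eval p - (p - q) * (S r a).eval p) := by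
  rw [L_apply, derivative_X_sub_C_pow, Nat.add_sub_cancel, pow_succ]
  simp only [eval_sub, eval_mul, eval_C, eval_pow, eval_X]
  ring

/-- The top coefficient pair is controlled by two powers at one point. -/
theorem degreeLT_le_of_two (q : k) (M : ℕ) (U : Submodule k k[X])
    (hlow : degreeLT k M ≤ U) (h₁ : (X - C q) ^ M ∈ U) (h₂ : (X - C q) ^ (M + 1) ∈ U) :
    degreeLT k (M + 2) ≤ U := by
  refine degreeLT_le_of_pow_mem q _ U fun s hs => ?_
  rcases lt_or_ge s M with h | h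
  · exact hlow (pow_mem_degreeLT q h)
  · rcases (by omega : s = M ∨ s = M + 1) with rfl | rfl
    exacts [h₁, h₂]

variable [CharZero k] {b : ℕ} (hb : 1 ≤ b) (hr : Function.Injective r)
include hb hr

/-- A hyperplane containing `D·k[X]_{<b-2}` and the polar parts contains all low-degree images. -/
theorem L_mem_of_hU (V₁ : Submodule k k[X])
    (hU : (degreeLT k (b - 2)).map (LinearMap.mulLeft k (D r a)) ⊔
      (⨆ i, (degreeLT k (a i)).map (LinearMap.mulLeft k (Di r a i))) ≤ V₁)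
    {G : k[X]} (hG : G ∈ degreeLT k ((∑ j, a j) + b - 1)) : L r a G ∈ V₁ := by
  rw [show (∑ j, a j) + b - 1 = (∑ j, a j) + (b - 1) by omega] at hG
  obtain ⟨Q, hQ, hGQ⟩ := exists_EQ_add r a hr (b - 1) G hG
  have h1 : L r a (E r a * Q) ∈ V₁ := by
    rw [L_E_mul]
    refine hU (Submodule.mem_sup_left ⟨derivative Q, mem_degreeLT.mpr ?_, rfl⟩)
    by_cases h0 : derivative Q = 0
    · simp [h0]
    · have hQ0 : Q ≠ 0 := fun h => h0 (by simp [h])
      have := (natDegree_lt_iff_degree_lt hQ0).mpr (mem_degreeLT.mp hQ)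
      refine (natDegree_lt_iff_degree_lt h0).mp ?_
      have h2 := natDegree_derivative_lt (p := Q) (fun h => h0 (derivative_of_natDegree_zero h))
      omega
  have h3 : L r a (G - E r a * Q) ∈ V₁ := by
    refine (iSup_le fun i => ?_ : (⨆ i, (degreeLT k (a i)).map
      (LinearMap.mulLeft k (Ei r a i))) ≤ V₁.comap (L r a)) hGQ
    refine Submodule.map_le_iff_le_comap.mpr (degreeLT_le_of_pow_mem (r i) _ _ fun s hs => ?_)
    rw [Submodule.mem_comap, Submodule.mem_comap, LinearMap.mulLeft_apply, L_Ei_mul, ← smul_eq_C_mul]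
    exact V₁.smul_mem _ (hU (Submodule.mem_sup_right (Submodule.mem_iSup_of_mem i
      ⟨_, pow_mem_degreeLT (r i) hs, rfl⟩)))
  have := V₁.add_mem h3 h1
  rwa [← map_add, sub_add_cancel] at this

theorem not_both_mem (V₁ : Submodule k k[X])
    (hfin : Module.finrank k V₁ + 1 = (∑ j, a j) + b) (hle : V₁ ≤ V r a b)
    (hU : (degreeLT k (b - 2)).map (LinearMap.mulLeft k (D r a)) ⊔
      (⨆ i, (degreeLT k (a i)).map (LinearMap.mulLeft k (Di r a i))) ≤ V₁)
    (q : k) (h₁ : L r a ((X - C q) ^ ((∑ j, a j) + b - 1)) ∈ V₁)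
    (h₂ : L r a ((X - C q) ^ ((∑ j, a j) + b)) ∈ V₁) : False := by
  set M := (∑ j, a j) + b - 1 with hM
  have hM1 : (∑ j, a j) + b = M + 1 := by omega
  rw [hM1] at h₂
  have h3 := degreeLT_le_of_two q M (V₁.comap (L r a))
    (fun G hG => L_mem_of_hU r a hb hr V₁ hU hG) h₁ h₂
  have h4 : V r a b ≤ V₁ := by
    rw [← map_L_eq_V r a b hr, show (∑ j, a j) + b + 1 = M + 2 by omega]
    exact Submodule.map_le_iff_le_comap.mpr h3
  rw [le_antisymm hle h4, finrank_V r a hr b] at hfin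
  omega

theorem hyperplane_unique (V₁ : Submodule k k[X])
    (hfin : Module.finrank k V₁ + 1 = (∑ j, a j) + b) (hle : V₁ ≤ V r a b)
    (hU : (degreeLT k (b - 2)).map (LinearMap.mulLeft k (D r a)) ⊔
      (⨆ i, (degreeLT k (a i)).map (LinearMap.mulLeft k (Di r a i))) ≤ V₁)
    (q q' : k) (h₁ : L r a ((X - C q) ^ ((∑ j, a j) + b)) ∈ V₁)
    (h₂ : L r a ((X - C q') ^ ((∑ j, a j) + b)) ∈ V₁) : q = q' := by
  by_contra hne
  set M := (∑ j, a j) + b - 1 with hM
  have hM1 : (∑ j, a j) + b = M + 1 := by omega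
  have hlow : degreeLT k M ≤ V₁.comap (L r a) := fun G hG => L_mem_of_hU r a hb hr V₁ hU hG
  refine not_both_mem r a hb hr V₁ hfin hle hU q ?_ h₁
  have hmem : (X - C q') ^ (M + 1) - (X - C q) ^ (M + 1) -
      C (((M + 1 : ℕ) : k) * (q - q')) * (X - C q) ^ M ∈ degreeLT k M := by
    have he : (X - C q') ^ (M + 1) = ((X - C q) + C (q - q')) ^ (M + 1) := by
      congr 1; rw [C_sub]; ring
    rw [he, add_pow, Finset.sum_range_succ, Finset.sum_range_succ]
    simp only [Nat.sub_self, pow_zero, mul_one, Nat.choose_self, Nat.cast_one,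
      Nat.add_sub_cancel_left, pow_one, Nat.choose_succ_self_right]
    rw [map_mul, map_natCast, show ∀ x y z w : k[X], x + y + z - z - w = x + (y - w) from
      fun x y z w => by ring]
    refine Submodule.add_mem _ (Submodule.sum_mem _ fun s hs => ?_) ?_
    · rw [Finset.mem_range] at hs
      rw [mul_assoc, show (C (q - q') : k[X]) ^ (M + 1 - s) * (((M + 1).choose s : ℕ) : k[X]) =
        C ((q - q') ^ (M + 1 - s) * ((M + 1).choose s : k)) by rw [map_mul, map_pow, map_natCast],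
        mul_comm, ← smul_eq_C_mul]
      exact Submodule.smul_mem _ _ (pow_mem_degreeLT q hs)
    · rw [show (X - C q) ^ M * C (q - q') * ((M + 1 : ℕ) : k[X]) -
        ((M + 1 : ℕ) : k[X]) * C (q - q') * (X - C q) ^ M = 0 by ring]
      exact zero_mem _
  have hc : ((M + 1 : ℕ) : k) * (q - q') ≠ 0 :=
    mul_ne_zero (Nat.cast_ne_zero.mpr (Nat.succ_ne_zero M)) (sub_ne_zero.mpr hne)
  rw [hM1] at h₁ h₂
  have h5 : L r a (C (((M + 1 : ℕ) : k) * (q - q')) * (X - C q) ^ M) ∈ V₁ := by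
    have h6 := V₁.sub_mem (V₁.sub_mem h₂ h₁) (hlow hmem)
    rw [← map_sub, ← map_sub] at h6
    rwa [sub_sub_cancel] at h6
  rw [← smul_eq_C_mul, map_smul] at h5
  have h7 := V₁.smul_mem (((M + 1 : ℕ) : k) * (q - q'))⁻¹ h5
  rwa [smul_smul, inv_mul_cancel₀ hc, one_smul] at h7

omit hb in
theorem L_pow_mem (q : k) {n : ℕ} (hn : n ≤ (∑ j, a j) + b) :
    L r a ((X - C q) ^ n) ∈ V r a b := by
  rw [← map_L_eq_V r a b hr]
  exact ⟨_, pow_mem_degreeLT q (by omega), rfl⟩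

omit hb in
/-- Members of `V` vanishing to order `N - 1` off the marked points. -/
theorem exists_eq_smul {q : k} (hq : ∀ j, q ≠ r j) {h : k[X]}
    (hh : h ∈ V r a b ⊓ dvdAt q ((∑ j, a j) + b - 1)) (hN : 1 ≤ (∑ j, a j) + b) :
    ∃ c : k, h = c • L r a ((X - C q) ^ ((∑ j, a j) + b)) := by
  rw [V_inf_dvdAt r a hr b hq, dvdAt_inf_degreeLT,
    show (∑ j, a j) + b - 1 + 1 = (∑ j, a j) + b by omega,
    show (∑ j, a j) + b + 1 - ((∑ j, a j) + b) = 1 by omega] at hh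
  obtain ⟨_, ⟨G, hG, rfl⟩, rfl⟩ := hh
  have hG0 : G = C (G.coeff 0) := by
    refine eq_C_of_natDegree_eq_zero ?_
    rw [natDegree_eq_zero_iff_degree_le_zero, ← Nat.WithBot.lt_one_iff_le_zero]
    exact mem_degreeLT.mp hG
  exact ⟨G.coeff 0, by rw [LinearMap.mulLeft_apply, hG0, ← map_smul, smul_eq_C_mul, coeff_C_zero,
    mul_comm]⟩

omit hb in
theorem mem_of_inf_ne_bot {q : k} (hq : ∀ j, q ≠ r j) (V₁ : Submodule k k[X]) (hle : V₁ ≤ V r a b)
    (hN : 1 ≤ (∑ j, a j) + b) (hne : V₁ ⊓ dvdAt q ((∑ j, a j) + b - 1) ≠ ⊥) :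
    L r a ((X - C q) ^ ((∑ j, a j) + b)) ∈ V₁ := by
  obtain ⟨h, hh, hh0⟩ := (Submodule.ne_bot_iff _).mp hne
  obtain ⟨c, rfl⟩ := exists_eq_smul r a hr hq (h := h) ⟨hle hh.1, hh.2⟩ hN
  have hc : c ≠ 0 := fun h0 => hh0 (by rw [h0, zero_smul])
  have := V₁.smul_mem c⁻¹ hh.1
  rwa [smul_smul, inv_mul_cancel₀ hc, one_smul] at this

omit hb in
theorem inf_dvdAt_eq_bot {q : k} (hq : ∀ j, q ≠ r j) :
    V r a b ⊓ dvdAt q ((∑ j, a j) + b) = ⊥ := by
  haveI := finite_V r a hr b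
  haveI : FiniteDimensional k ↥(V r a b ⊓ dvdAt q ((∑ j, a j) + b)) :=
    Submodule.finiteDimensional_of_le inf_le_left
  rw [← Submodule.finrank_eq_zero, finrank_V_inf_dvdAt r a hr b hq]
  omega

omit hb in
theorem finrank_inf_le_one (V₁ : Submodule k k[X]) (hle : V₁ ≤ V r a b)
    (hfin : Module.finrank k V₁ + 1 = (∑ j, a j) + b) {q : k} (hq : ∀ j, q ≠ r j)
    (hnot : 2 ≤ (∑ j, a j) + b → L r a ((X - C q) ^ ((∑ j, a j) + b - 1)) ∈ V₁ →
      L r a ((X - C q) ^ ((∑ j, a j) + b)) ∈ V₁ → False) :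
    Module.finrank k ↥(V₁ ⊓ dvdAt q ((∑ j, a j) + b - 2)) ≤ 1 := by
  classical
  haveI := finite_V r a hr b
  have h := finrank_inf_hyperplane (V r a b) V₁ (dvdAt q ((∑ j, a j) + b - 2)) hle
    (by rw [finrank_V r a hr b]; exact hfin)
  rw [finrank_V_inf_dvdAt r a hr b hq] at h
  by_cases h2 : 2 ≤ (∑ j, a j) + b
  · rw [if_neg] at h
    · omega
    · intro hsub
      refine hnot h2 (hsub ⟨L_pow_mem r a hr q (by omega), ?_⟩)
        (hsub ⟨L_pow_mem r a hr q le_rfl, ?_⟩)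
      · refine L_mem_dvdAt_of_mem r a q _ (mem_dvdAt.mpr (pow_dvd_pow _ (by omega)))
      · refine L_mem_dvdAt_of_mem r a q _ (mem_dvdAt.mpr (pow_dvd_pow _ (by omega)))
  · omega

theorem weight_root (V₁ : Submodule k k[X]) (hle : V₁ ≤ V r a b) (ha : ∀ j, 1 ≤ a j)
    (hfin : Module.finrank k V₁ + 1 = (∑ j, a j) + b) (i : Fin m)
    (hnot : L r a ((X - C (r i)) ^ ((∑ j, a j) + b - 1)) ∈ V₁ →
      L r a ((X - C (r i)) ^ ((∑ j, a j) + b)) ∈ V₁ → False) (d : ℕ)
    (hd : d + 1 = (∑ j, (a j + 1)) + b) :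
    ∃ ε : ℕ, ε ≤ 1 ∧
      (∑ n ∈ Finset.range d, Module.finrank k ↥(V₁ ⊓ dvdAt (r i) (n + 1))) + 1 =
        ((∑ j, a j) + b - 1).choose 2 + ((∑ j, a j) + b - a i) + ε := by
  haveI := finite_V r a hr b
  have hm : 0 < m := Fin.pos i
  have hai : a i ≤ ∑ j, a j := Finset.single_le_sum (fun j _ => Nat.zero_le _) (Finset.mem_univ i)
  have hai1 := ha i
  rw [Finset.sum_add_distrib, Finset.sum_const, Finset.card_fin, smul_eq_mul, mul_one] at hd
  obtain ⟨c, hc⟩ := sum_finrank_hyperplane (V r a b) V₁ hle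
    (by rw [finrank_V r a hr b]; exact hfin) (dvdAt (r i)) (dvdAt_antitone (r i)) d
    ((∑ j, a j) + b - 1) ((∑ j, a j) + b) (by omega)
    (fun _ hsub => hnot
      (hsub ⟨L_pow_mem r a hr (r i) (by omega), L_mem_dvdAt_root r a i _ (mem_dvdAt.mpr dvd_rfl)⟩)
      (hsub ⟨L_pow_mem r a hr (r i) le_rfl, L_mem_dvdAt_root r a i _
        (mem_dvdAt.mpr (pow_dvd_pow _ (by omega)))⟩))
    (fun _ => by
      haveI : FiniteDimensional k ↥(V r a b ⊓ dvdAt (r i) ((∑ j, a j) + b + 1)) :=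
        Submodule.finiteDimensional_of_le inf_le_left
      rw [Submodule.finrank_eq_zero.mp (by
        rw [finrank_V_inf_dvdAt_root r a hr b, if_neg (by omega)]; omega :
        Module.finrank k ↥(V r a b ⊓ dvdAt (r i) ((∑ j, a j) + b + 1)) = 0)]
      exact bot_le)
  rcases hc with ⟨h1, h2, h3⟩ | h
  swap
  · omega
  simp only [finrank_V_inf_dvdAt_root r a hr b] at h3
  rw [sum_orders _ (a i) d (by omega) (by omega) (Or.inl (by omega))] at h3
  refine ⟨(∑ j, a j) + b - c, by omega, ?_⟩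
  have hch : ((∑ j, a j) + b).choose 2 =
      ((∑ j, a j) + b - 1) + ((∑ j, a j) + b - 1).choose 2 := by
    conv_lhs => rw [show (∑ j, a j) + b = (∑ j, a j) + b - 1 + 1 by omega]
    rw [Nat.choose_succ_succ', Nat.choose_one_right]
  omega

theorem weight_infty (V₁ : Submodule k k[X]) (hle : V₁ ≤ V r a b) (ha : ∀ j, 1 ≤ a j)
    (hfin : Module.finrank k V₁ + 1 = (∑ j, a j) + b) (d n₁ n₂ : ℕ) (hn₁ : n₁ ≤ d)
    (hn : n₁ ≤ n₂)
    (hd : d + 1 = (∑ j, (a j + 1)) + b)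
    (h₁ : 1 ≤ n₁ → ¬ V r a b ⊓ degreeLT k ((∑ j, a j) + b + m - n₁) ≤ V₁)
    (h₂ : n₂ < d → V r a b ⊓ degreeLT k ((∑ j, a j) + b + m - (n₂ + 1)) ≤ V₁) :
    ∃ c, n₁ ≤ c ∧ c ≤ n₂ ∧
      (∑ n ∈ Finset.range d, Module.finrank k ↥(V₁ ⊓ degreeLT k (d - n))) + c =
        ((∑ j, a j) + b - 1).choose 2 + ((∑ j, a j) + b - 1) + ((∑ j, a j) + b - b) := by
  haveI := finite_V r a hr b
  have hd' := hd
  rw [Finset.sum_add_distrib, Finset.sum_const, Finset.card_fin, smul_eq_mul, mul_one] at hd'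
  obtain ⟨c, hc⟩ := sum_finrank_hyperplane (V r a b) V₁ hle
    (by rw [finrank_V r a hr b]; exact hfin) (fun n => degreeLT k ((∑ j, a j) + b + m - n))
    (fun n n' h => degreeLT_mono (by omega)) d n₁ n₂ hn₁ h₁ h₂
  rcases hc with ⟨e1, e2, e3⟩ | h
  swap
  · omega
  refine ⟨c, e1, e2, ?_⟩
  simp only [finrank_V_inf_degreeLT r a hr b] at e3
  have hme : (∑ j, a j) + b ≤ d ∨ b = (∑ j, a j) + b := by
    rcases Nat.eq_zero_or_pos m with h | h
    · subst h; exact Or.inr (by simp)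
    · left; omega
  rw [sum_orders _ b d (by omega) (by omega) hme] at e3
  have hch : ((∑ j, a j) + b).choose 2 =
      ((∑ j, a j) + b - 1) + ((∑ j, a j) + b - 1).choose 2 := by
    conv_lhs => rw [show (∑ j, a j) + b = (∑ j, a j) + b - 1 + 1 by omega]
    rw [Nat.choose_succ_succ', Nat.choose_one_right]
  rw [show ∑ n ∈ Finset.range d, Module.finrank k ↥(V₁ ⊓ degreeLT k (d - n)) =
    ∑ n ∈ Finset.range d, Module.finrank k ↥(V₁ ⊓ degreeLT k ((∑ j, a j) + b + m - (n + 1))) from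
      Finset.sum_congr rfl fun n hn => by
        rw [show d - n = (∑ j, a j) + b + m - (n + 1) by omega]]
  omega

end Groth.Agent.DivWronsk
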