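import Groth.Agent.DivWronsk.Basic

/-!
Vanishing orders of `L F`.
-/

set_option autoImplicit false

open Polynomial

namespace Groth.Agent.DivWronsk

variable {k : Type*} [Field k] {m : ℕ} (r : Fin m → k) (a : Fin m → ℕ)

/-- Multiples of `(X - q) ^ n`. -/
noncomputable def dvdAt (q : k) (n : ℕ) : Submodule k k[X] :=
  (Ideal.span {(X - C q) ^ n}).restrictScalars k

theorem mem_dvdAt {q : k} {n : ℕ} {F : k[X]} : F ∈ dvdAt q n ↔ (X - C q) ^ n ∣ F := by
  rw [dvdAt, Submodule.restrictScalars_mem, Ideal.mem_span_singleton]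

theorem eq_zero_of_mem_dvdAt {q : k} {n : ℕ} {F : k[X]} (h : F ∈ dvdAt q n)
    (hd : F ∈ degreeLT k n) : F = 0 := by
  refine eq_zero_of_dvd_of_degree_lt (mem_dvdAt.mp h) ?_
  rw [degree_pow, degree_X_sub_C, nsmul_one]
  exact mem_degreeLT.mp hd

theorem eval_P_ne_zero {q : k} (hq : ∀ j, q ≠ r j) : (P r).eval q ≠ 0 := by
  rw [P, eval_prod]
  exact Finset.prod_ne_zero_iff.mpr fun j _ => by simpa [sub_eq_zero] using hq j

theorem eval_E_ne_zero {q : k} (hq : ∀ j, q ≠ r j) : (E r a).eval q ≠ 0 := by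
  rw [E, eval_prod]
  exact Finset.prod_ne_zero_iff.mpr fun j _ => by
    simp only [eval_pow, eval_sub, eval_X, eval_C]
    exact pow_ne_zero _ (sub_ne_zero.mpr (hq j))

theorem eval_Ei_ne_zero (hr : Function.Injective r) (i : Fin m) : (Ei r a i).eval (r i) ≠ 0 := by
  rw [Ei, eval_prod]
  exact Finset.prod_ne_zero_iff.mpr fun j hj => by
    simp only [eval_pow, eval_sub, eval_X, eval_C]
    exact pow_ne_zero _ (sub_ne_zero.mpr (hr.ne (Finset.ne_of_mem_erase hj).symm))

theorem eval_Pi'_ne_zero (hr : Function.Injective r) (i : Fin m) :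
    (Pi' r i).eval (r i) ≠ 0 := by
  rw [Pi', eval_prod]
  exact Finset.prod_ne_zero_iff.mpr fun j hj => by
    simp only [eval_sub, eval_X, eval_C]
    exact sub_ne_zero.mpr (hr.ne (Finset.ne_of_mem_erase hj).symm)

theorem natDegree_P : (P r).natDegree = m := by
  rw [P, natDegree_prod_of_monic _ _ fun j _ => monic_X_sub_C _]
  simp

theorem monic_P : (P r).Monic := monic_prod_of_monic _ _ fun j _ => monic_X_sub_C _

/-- `L` of a power times a polynomial, multiplied through. -/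
theorem L_pow_mul (q : k) (t : ℕ) (G : k[X]) :
    L r a ((X - C q) ^ t * G) * (X - C q) =
      (X - C q) ^ t * (C (t : k) * G * P r + (X - C q) * L r a G) := by
  rw [L_apply, L_apply, derivative_mul, derivative_X_sub_C_pow]
  rcases Nat.eq_zero_or_pos t with h | h
  · subst h; simp; ring
  · conv_lhs => rw [show t = t - 1 + 1 by omega, pow_succ]
    conv_rhs => rw [show (X - C q) ^ t = (X - C q) ^ (t - 1) * (X - C q) by
      rw [← pow_succ]; congr 1; omega]
    rw [show ((t - 1 + 1 : ℕ) : k) = (t : k) by congr 1; omega]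
    simp only [Nat.add_sub_cancel]
    ring

theorem L_mem_dvdAt_of_mem (q : k) (n : ℕ) {F : k[X]} (hF : F ∈ dvdAt q (n + 1)) :
    L r a F ∈ dvdAt q n := by
  rw [mem_dvdAt] at hF ⊢
  obtain ⟨G, rfl⟩ := hF
  refine ⟨C ((n + 1 : ℕ) : k) * G * P r + (X - C q) * L r a G, ?_⟩
  refine mul_right_cancel₀ (X_sub_C_ne_zero q) ?_
  rw [L_pow_mul, pow_succ]
  ring

theorem L_mem_dvdAt_root (i : Fin m) (n : ℕ) {F : k[X]} (hF : F ∈ dvdAt (r i) n) :
    L r a F ∈ dvdAt (r i) n := by
  rw [mem_dvdAt] at hF ⊢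
  obtain ⟨G, rfl⟩ := hF
  refine ⟨C (n : k) * G * Pi' r i + L r a G, ?_⟩
  refine mul_right_cancel₀ (X_sub_C_ne_zero (r i)) ?_
  rw [L_pow_mul, ← split_P r i]
  ring

variable [CharZero k]

theorem mem_dvdAt_succ {q : k} (hq : ∀ j, q ≠ r j) (n : ℕ) (F : k[X]) (h0 : F.eval q = 0)
    (hL : L r a F ∈ dvdAt q n) : F ∈ dvdAt q (n + 1) := by
  by_contra hcon
  rw [mem_dvdAt] at hcon hL
  have hF : F ≠ 0 := fun h => hcon (by simp [h])
  set t := rootMultiplicity q F with ht
  obtain ⟨G, hG, hGq⟩ := exists_eq_pow_rootMultiplicity_mul_and_not_dvd F hF q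
  rw [← ht] at hG
  have ht1 : 1 ≤ t := (rootMultiplicity_pos hF).mpr h0
  have htn : t ≤ n := by
    by_contra h
    exact hcon (hG ▸ Dvd.dvd.mul_right (pow_dvd_pow _ (by omega)) G)
  have h2 : (X - C q) ^ (n + 1) ∣ L r a ((X - C q) ^ t * G) * (X - C q) := by
    rw [pow_succ, ← hG]; exact mul_dvd_mul_right hL _
  rw [L_pow_mul] at h2
  have h3 : (X - C q) ∣ C (t : k) * G * P r + (X - C q) * L r a G := by
    have h4 : (X - C q) ^ (t + 1) ∣ (X - C q) ^ t * (C (t : k) * G * P r + (X - C q) * L r a G) :=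
      dvd_trans (pow_dvd_pow _ (by omega)) h2
    rw [pow_succ] at h4
    exact (mul_dvd_mul_iff_left (pow_ne_zero _ (X_sub_C_ne_zero q))).mp h4
  rw [dvd_iff_isRoot, IsRoot] at h3
  simp only [eval_add, eval_mul, eval_C, eval_sub, eval_X, sub_self, zero_mul, add_zero] at h3
  rcases mul_eq_zero.mp h3 with h | h
  · rcases mul_eq_zero.mp h with h | h
    · exact absurd (Nat.cast_eq_zero.mp h) (by omega)
    · exact hGq (dvd_iff_isRoot.mpr h)
  · exact eval_P_ne_zero r hq h

theorem exists_sub_mem_dvdAt {q : k} (hq : ∀ j, q ≠ r j) (n : ℕ) (F : k[X])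
    (hL : L r a F ∈ dvdAt q n) : ∃ c : k, F - c • E r a ∈ dvdAt q (n + 1) := by
  refine ⟨F.eval q / (E r a).eval q, mem_dvdAt_succ r a hq n _ ?_ ?_⟩
  · rw [eval_sub, eval_smul, smul_eq_mul, div_mul_cancel₀ _ (eval_E_ne_zero r a hq), sub_self]
  · rw [map_sub, map_smul, L_E, smul_zero, sub_zero]; exact hL

theorem mem_dvdAt_root (hr : Function.Injective r) (i : Fin m) (n : ℕ) (F : k[X])
    (hF : n ≤ a i ∨ F ∈ dvdAt (r i) (a i + 1)) (hL : L r a F ∈ dvdAt (r i) n) :
    F ∈ dvdAt (r i) n := by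
  by_contra hcon
  rw [mem_dvdAt] at hcon hL
  have hF0 : F ≠ 0 := fun h => hcon (by simp [h])
  set t := rootMultiplicity (r i) F with ht
  obtain ⟨G, hG, hGq⟩ := exists_eq_pow_rootMultiplicity_mul_and_not_dvd F hF0 (r i)
  rw [← ht] at hG
  have htn : t < n := by
    by_contra h
    exact hcon (hG ▸ Dvd.dvd.mul_right (pow_dvd_pow _ (by omega)) G)
  have hta : t ≠ a i := by
    rcases hF with h | h
    · omega
    · have := (le_rootMultiplicity_iff hF0).mpr (mem_dvdAt.mp h)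
      omega
  have h2 : (X - C (r i)) ^ (n + 1) ∣ L r a ((X - C (r i)) ^ t * G) * (X - C (r i)) := by
    rw [pow_succ, ← hG]; exact mul_dvd_mul_right hL _
  rw [L_pow_mul] at h2
  have h3 : (X - C (r i)) ^ 2 ∣ C (t : k) * G * P r + (X - C (r i)) * L r a G := by
    have h4 : (X - C (r i)) ^ t * (X - C (r i)) ^ 2 ∣
        (X - C (r i)) ^ t * (C (t : k) * G * P r + (X - C (r i)) * L r a G) :=
      dvd_trans (by rw [← pow_add]; exact pow_dvd_pow _ (by omega)) h2
    exact (mul_dvd_mul_iff_left (pow_ne_zero _ (X_sub_C_ne_zero (r i)))).mp h4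
  rw [← split_P r i, show C (t : k) * G * ((X - C (r i)) * Pi' r i) + (X - C (r i)) * L r a G =
    (X - C (r i)) * (C (t : k) * G * Pi' r i + L r a G) by ring, sq] at h3
  have h5 := (mul_dvd_mul_iff_left (X_sub_C_ne_zero (r i))).mp h3
  rw [dvd_iff_isRoot, IsRoot] at h5
  have hPz : (P r).eval (r i) = 0 := by rw [← split_P r i]; simp
  have hS : (S r a).eval (r i) = (a i : k) * (Pi' r i).eval (r i) := by
    rw [S, eval_finset_sum, Finset.sum_eq_single i]
    · simp
    · intro j _ hj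
      rw [Pi', eval_mul, eval_prod, Finset.prod_eq_zero (i := i) (by simp [Ne.symm hj]) (by simp),
        mul_zero]
    · simp
  simp only [L_apply, eval_add, eval_sub, eval_mul, eval_C, hPz, hS, mul_zero, zero_sub] at h5
  have h6 : ((t : k) - a i) * G.eval (r i) * (Pi' r i).eval (r i) = 0 := by linear_combination h5
  rcases mul_eq_zero.mp h6 with h | h
  · rcases mul_eq_zero.mp h with h | h
    · exact hta (by exact_mod_cast sub_eq_zero.mp h)
    · exact hGq (dvd_iff_isRoot.mpr h)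
  · exact eval_Pi'_ne_zero r hr i h

theorem exists_sub_mem_dvdAt_root (hr : Function.Injective r) (i : Fin m) (n : ℕ) (F : k[X])
    (hL : L r a F ∈ dvdAt (r i) n) : ∃ c : k, F - c • E r a ∈ dvdAt (r i) n := by
  by_cases hn : n ≤ a i
  · exact ⟨0, by simpa using mem_dvdAt_root r a hr i n F (Or.inl hn) hL⟩
  · have hLa : L r a F ∈ dvdAt (r i) (a i) :=
      mem_dvdAt.mpr (dvd_trans (pow_dvd_pow _ (by omega)) (mem_dvdAt.mp hL))
    obtain ⟨G, rfl⟩ := mem_dvdAt.mp (mem_dvdAt_root r a hr i (a i) F (Or.inl le_rfl) hLa)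
    refine ⟨G.eval (r i) / (Ei r a i).eval (r i), mem_dvdAt_root r a hr i n _ (Or.inr ?_) ?_⟩
    · rw [mem_dvdAt, ← split_E r a i, smul_eq_C_mul,
        show ∀ x y z : k[X], x * y - z * (x * Ei r a i) = x * (y - z * Ei r a i) from
          fun x y z => by ring, pow_succ]
      refine mul_dvd_mul_left _ (dvd_iff_isRoot.mpr ?_)
      rw [IsRoot, eval_sub, eval_mul, eval_C, div_mul_cancel₀ _ (eval_Ei_ne_zero r a hr i),
        sub_self]
    · rw [map_sub, map_smul, L_E, smul_zero, sub_zero]; exact hL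

theorem L_eq_zero (hr : Function.Injective r) {n : ℕ} (hn : ∑ j, a j < n) {F : k[X]}
    (hF : F ∈ degreeLT k n) (h : L r a F = 0) : ∃ c : k, F = c • E r a := by
  classical
  obtain ⟨q, hq⟩ := Infinite.exists_notMem_finset (Finset.univ.image r)
  have hq' : ∀ j, q ≠ r j := fun j hj =>
    hq (hj ▸ Finset.mem_image_of_mem r (Finset.mem_univ j))
  obtain ⟨c, hc⟩ := exists_sub_mem_dvdAt r a hq' n F (by rw [h]; exact zero_mem _)
  have hE : E r a ∈ degreeLT k n := by
    rw [mem_degreeLT, degree_eq_natDegree (monic_E r a).ne_zero, natDegree_E]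
    exact_mod_cast hn
  refine ⟨c, sub_eq_zero.mp (eq_zero_of_mem_dvdAt hc ?_)⟩
  exact degreeLT_mono (Nat.le_succ n) (Submodule.sub_mem _ hF (Submodule.smul_mem _ _ hE))

end Groth.Agent.DivWronsk
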