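import Groth.Agent.DivWronsk.Orders

/-!
Dimensions of the filtrations of `V`.
-/

set_option autoImplicit false

open Polynomial

namespace Groth.Agent.DivWronsk

variable {k : Type*} [Field k] {m : ℕ} (r : Fin m → k) (a : Fin m → ℕ)

instance finite_degreeLT (n : ℕ) : FiniteDimensional k (degreeLT k n) :=
  Module.Finite.equiv (degreeLTEquiv k n).symm

theorem finrank_degreeLT (n : ℕ) : Module.finrank k (degreeLT k n) = n := by
  rw [(degreeLTEquiv k n).finrank_eq, Module.finrank_fin_fun]

theorem dvdAt_inf_degreeLT (q : k) (n N : ℕ) :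
    degreeLT k N ⊓ dvdAt q n =
      (degreeLT k (N - n)).map (LinearMap.mulLeft k ((X - C q) ^ n)) := by
  have hdeg : ((X - C q) ^ n).natDegree = n := by simp
  apply le_antisymm
  · rintro F ⟨hF, hd⟩
    obtain ⟨G, hG, rfl⟩ := dvd_one_degreeLT ((monic_X_sub_C q).pow n) (mem_dvdAt.mp hd) hF
    rw [hdeg] at hG
    exact ⟨G, hG, rfl⟩
  · rintro _ ⟨G, hG, rfl⟩
    refine ⟨?_, mem_dvdAt.mpr ⟨G, rfl⟩⟩
    by_cases h : N ≤ n
    · rw [Nat.sub_eq_zero_of_le h] at hG
      have : G = 0 := by simpa [mem_degreeLT] using hG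
      simp [this]
    · have h1 := mul_mem_degreeLT hG ((X - C q) ^ n)
      rw [hdeg, Nat.add_sub_cancel' (by omega)] at h1
      exact h1

theorem finrank_dvdAt_inf (q : k) (n N : ℕ) :
    Module.finrank k ↥(degreeLT k N ⊓ dvdAt q n) = N - n := by
  rw [dvdAt_inf_degreeLT, ← (Submodule.equivMapOfInjective (LinearMap.mulLeft k ((X - C q) ^ n))
    (mul_right_injective₀ (pow_ne_zero n (X_sub_C_ne_zero q))) _).finrank_eq, finrank_degreeLT]

theorem E_mem_degreeLT {n : ℕ} (hn : ∑ j, a j < n) : E r a ∈ degreeLT k n := by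
  rw [mem_degreeLT, degree_eq_natDegree (monic_E r a).ne_zero, natDegree_E]
  exact_mod_cast hn

theorem natDegree_S_le : (S r a).natDegree ≤ m - 1 := by
  refine natDegree_sum_le_of_forall_le _ _ fun j _ => (natDegree_C_mul_le _ _).trans ?_
  rw [Pi', natDegree_prod_of_monic _ _ fun i _ => monic_X_sub_C _]
  simp

theorem coeff_S_top : (S r a).coeff (m - 1) = ((∑ j, a j : ℕ) : k) := by
  rw [S, finsetSum_coeff, Nat.cast_sum]
  refine Finset.sum_congr rfl fun j _ => ?_
  rw [coeff_C_mul, Pi']
  have h : (∏ i ∈ Finset.univ.erase j, (X - C (r i))).natDegree = m - 1 := by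
    rw [natDegree_prod_of_monic _ _ fun i _ => monic_X_sub_C _]
    simp
  rw [← h, (monic_prod_of_monic _ _ fun i _ => monic_X_sub_C _).coeff_natDegree, mul_one]

theorem L_mem_degreeLT (n : ℕ) {F : k[X]} (hF : F ∈ degreeLT k (n + 1)) :
    L r a F ∈ degreeLT k (n + m) := by
  rw [mem_degreeLT_iff'] at hF ⊢
  intro j hj
  have hFn : F.natDegree ≤ n := natDegree_le_iff_coeff_eq_zero.mpr fun i hi => hF i (by omega)
  rw [L_apply, coeff_sub]
  have h1 : (derivative F * P r).coeff j = 0 := by
    by_cases hd : derivative F = 0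
    · simp [hd]
    · refine coeff_eq_zero_of_natDegree_lt (lt_of_le_of_lt natDegree_mul_le ?_)
      have := natDegree_derivative_lt (p := F) fun h => hd (derivative_of_natDegree_zero h)
      rw [natDegree_P]; omega
  have h2 : (F * S r a).coeff j = 0 := by
    rcases Nat.eq_zero_or_pos m with h | h
    · subst h; simp [S]
    · refine coeff_eq_zero_of_natDegree_lt (lt_of_le_of_lt natDegree_mul_le ?_)
      have := natDegree_S_le r a
      omega
  rw [h1, h2, sub_zero]

theorem coeff_L_top (t : ℕ) {F : k[X]} (hF : F.natDegree ≤ t) (ht : 1 ≤ t + m) :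
    (L r a F).coeff (t + m - 1) = ((t : k) - (∑ j, a j : ℕ)) * F.coeff t := by
  rw [L_apply, coeff_sub]
  have h1 : (derivative F * P r).coeff (t + m - 1) = (t : k) * F.coeff t := by
    rcases Nat.eq_zero_or_pos t with h | h
    · subst h
      rw [derivative_of_natDegree_zero (by omega)]
      simp
    · rw [show t + m - 1 = (t - 1) + m by omega, coeff_mul_add_eq_of_natDegree_le
        ((natDegree_derivative_le F).trans (by omega)) (natDegree_P r).le]
      rw [coeff_derivative, show t - 1 + 1 = t by omega]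
      have hP1 : (P r).coeff m = 1 := by
        have := (monic_P r).coeff_natDegree
        rwa [natDegree_P] at this
      rw [hP1, mul_one, mul_comm]
      congr 1
      rw [← Nat.cast_add_one, show t - 1 + 1 = t by omega]
  have h2 : (F * S r a).coeff (t + m - 1) = ((∑ j, a j : ℕ) : k) * F.coeff t := by
    rcases Nat.eq_zero_or_pos m with h | h
    · subst h; simp [S]
    · rw [show t + m - 1 = t + (m - 1) by omega, coeff_mul_add_eq_of_natDegree_le hF (natDegree_S_le r a),
        coeff_S_top, mul_comm]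
  rw [h1, h2, sub_mul]

variable [CharZero k]

theorem mem_degreeLT_of_L (n : ℕ) (F : k[X]) (hL : L r a F ∈ degreeLT k (n + m))
    (hc : F.coeff (∑ j, a j) = 0 ∨ ∑ j, a j ≤ n) : F ∈ degreeLT k (n + 1) := by
  rw [mem_degreeLT_iff']
  intro j hj
  by_contra hne
  have hle : j ≤ F.natDegree := le_natDegree_of_ne_zero hne
  have hF0 : F ≠ 0 := fun h => by simp [h] at hne
  set t := F.natDegree with ht
  have h1 := coeff_L_top r a t le_rfl (by omega)
  rw [(mem_degreeLT_iff').mp hL _ (by omega)] at h1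
  have hlc : F.coeff t ≠ 0 := leadingCoeff_ne_zero.mpr hF0
  rcases mul_eq_zero.mp h1.symm with h | h
  · have hta : t = ∑ j, a j := by exact_mod_cast sub_eq_zero.mp h
    rcases hc with h' | h'
    · exact hlc (hta ▸ h')
    · omega
  · exact hlc h

theorem exists_sub_mem_degreeLT (n : ℕ) (F : k[X]) (hL : L r a F ∈ degreeLT k (n + m)) :
    ∃ c : k, F - c • E r a ∈ degreeLT k (n + 1) := by
  by_cases h : ∑ j, a j ≤ n
  · exact ⟨0, by simpa using mem_degreeLT_of_L r a n F hL (Or.inr h)⟩
  · refine ⟨F.coeff (∑ j, a j), mem_degreeLT_of_L r a n _ ?_ (Or.inl ?_)⟩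
    · rwa [map_sub, map_smul, L_E, smul_zero, sub_zero]
    · conv_lhs => rw [coeff_sub, coeff_smul, ← natDegree_E r a, (monic_E r a).coeff_natDegree,
        natDegree_E, smul_eq_mul, mul_one, sub_self]

variable (hr : Function.Injective r)
include hr

/-- `V ∩ T` is the image of any `A` that computes it up to `E`. -/
theorem V_inf_eq_map (b : ℕ) (T A : Submodule k k[X])
    (hA : A ≤ degreeLT k ((∑ j, a j) + b + 1))
    (h1 : ∀ F ∈ A, L r a F ∈ T)
    (h2 : ∀ F ∈ degreeLT k ((∑ j, a j) + b + 1), L r a F ∈ T → ∃ c : k, F - c • E r a ∈ A) :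
    V r a b ⊓ T = A.map (L r a) := by
  rw [← map_L_eq_V r a b hr]
  apply le_antisymm
  · rintro _ ⟨⟨F, hF, rfl⟩, hT⟩
    obtain ⟨c, hc⟩ := h2 F hF hT
    exact ⟨_, hc, by rw [map_sub, map_smul, L_E, smul_zero, sub_zero]⟩
  · rintro _ ⟨F, hF, rfl⟩
    exact ⟨⟨F, hA hF, rfl⟩, h1 F hF⟩

theorem finrank_map_L (n : ℕ) (hn : ∑ j, a j < n) (A : Submodule k k[X]) (hA : A ≤ degreeLT k n)
    [Decidable (E r a ∈ A)] :
    Module.finrank k ↥(A.map (L r a)) + (if E r a ∈ A then 1 else 0) = Module.finrank k A := by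
  haveI : FiniteDimensional k A := Submodule.finiteDimensional_of_le hA
  have h1 := LinearMap.finrank_range_add_finrank_ker ((L r a).domRestrict A)
  rw [LinearMap.range_domRestrict] at h1
  rw [← h1]
  congr 1
  by_cases hE : E r a ∈ A
  · rw [if_pos hE]
    have : LinearMap.ker ((L r a).domRestrict A) = Submodule.span k {(⟨E r a, hE⟩ : A)} := by
      refine le_antisymm (fun x hx => ?_) ?_
      · obtain ⟨c, hc⟩ := L_eq_zero r a hr hn (hA x.2) hx
        exact Submodule.mem_span_singleton.mpr ⟨c, Subtype.ext hc.symm⟩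
      · rw [Submodule.span_le, Set.singleton_subset_iff]
        exact L_E r a
    rw [this, finrank_span_singleton]
    exact fun h => (monic_E r a).ne_zero (congrArg Subtype.val h)
  · rw [if_neg hE]
    have : LinearMap.ker ((L r a).domRestrict A) = ⊥ := by
      rw [eq_bot_iff]
      intro x hx
      obtain ⟨c, hc⟩ := L_eq_zero r a hr hn (hA x.2) hx
      by_cases hc0 : c = 0
      · exact (Submodule.mem_bot k).mpr (Subtype.ext (by rw [hc, hc0, zero_smul]; rfl))
      · refine absurd ?_ hE
        have := A.smul_mem c⁻¹ x.2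
        rwa [hc, smul_smul, inv_mul_cancel₀ hc0, one_smul] at this
    rw [this, finrank_bot]

variable (b : ℕ)

theorem finrank_V : Module.finrank k ↥(V r a b) = (∑ j, a j) + b := by
  classical
  have h := finrank_map_L r a hr _ (by omega : ∑ j, a j < (∑ j, a j) + b + 1) _ le_rfl
  rw [map_L_eq_V r a b hr, finrank_degreeLT, if_pos (E_mem_degreeLT r a (by omega))] at h
  omega

theorem finite_V : FiniteDimensional k ↥(V r a b) := by
  rw [← map_L_eq_V r a b hr]
  infer_instance

theorem V_inf_dvdAt {q : k} (hq : ∀ j, q ≠ r j) (n : ℕ) :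
    V r a b ⊓ dvdAt q n =
      (degreeLT k ((∑ j, a j) + b + 1) ⊓ dvdAt q (n + 1)).map (L r a) := by
  refine V_inf_eq_map r a hr b _ _ inf_le_left (fun F hF => L_mem_dvdAt_of_mem r a q n hF.2)
    fun F hF hL => ?_
  obtain ⟨c, hc⟩ := exists_sub_mem_dvdAt r a hq n F hL
  exact ⟨c, Submodule.sub_mem _ hF (Submodule.smul_mem _ _ (E_mem_degreeLT r a (by omega))), hc⟩

theorem V_inf_dvdAt_root (i : Fin m) (n : ℕ) :
    V r a b ⊓ dvdAt (r i) n =
      (degreeLT k ((∑ j, a j) + b + 1) ⊓ dvdAt (r i) n).map (L r a) := by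
  refine V_inf_eq_map r a hr b _ _ inf_le_left (fun F hF => L_mem_dvdAt_root r a i n hF.2)
    fun F hF hL => ?_
  obtain ⟨c, hc⟩ := exists_sub_mem_dvdAt_root r a hr i n F hL
  exact ⟨c, Submodule.sub_mem _ hF (Submodule.smul_mem _ _ (E_mem_degreeLT r a (by omega))), hc⟩

theorem V_inf_degreeLT (n : ℕ) (hn : n ≤ (∑ j, a j) + b) :
    V r a b ⊓ degreeLT k (n + m) = (degreeLT k (n + 1)).map (L r a) := by
  refine V_inf_eq_map r a hr b _ _ (degreeLT_mono (by omega)) (fun F hF => L_mem_degreeLT r a n hF)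
    fun F _ hL => exists_sub_mem_degreeLT r a n F hL

theorem finrank_V_inf_dvdAt {q : k} (hq : ∀ j, q ≠ r j) (n : ℕ) :
    Module.finrank k ↥(V r a b ⊓ dvdAt q n) = (∑ j, a j) + b - n := by
  classical
  rw [V_inf_dvdAt r a hr b hq n]
  have h := finrank_map_L r a hr _ (by omega : ∑ j, a j < (∑ j, a j) + b + 1)
    (degreeLT k ((∑ j, a j) + b + 1) ⊓ dvdAt q (n + 1)) inf_le_left
  rw [finrank_dvdAt_inf, if_neg] at h
  · omega
  · rintro ⟨-, h2⟩
    refine eval_E_ne_zero r a hq ?_
    obtain ⟨G, hG⟩ := mem_dvdAt.mp h2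
    rw [hG, pow_succ]; simp

theorem finrank_V_inf_dvdAt_root (i : Fin m) (n : ℕ) :
    Module.finrank k ↥(V r a b ⊓ dvdAt (r i) n) =
      if n ≤ a i then (∑ j, a j) + b - n else (∑ j, a j) + b + 1 - n := by
  classical
  rw [V_inf_dvdAt_root r a hr b i n]
  have h := finrank_map_L r a hr _ (by omega : ∑ j, a j < (∑ j, a j) + b + 1)
    (degreeLT k ((∑ j, a j) + b + 1) ⊓ dvdAt (r i) n) inf_le_left
  rw [finrank_dvdAt_inf] at h
  by_cases hn : n ≤ a i
  · rw [if_pos hn]
    have hai : a i ≤ ∑ j, a j := Finset.single_le_sum (fun j _ => Nat.zero_le _) (Finset.mem_univ i)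
    rw [if_pos] at h
    · omega
    · refine ⟨E_mem_degreeLT r a (by omega), mem_dvdAt.mpr ?_⟩
      rw [← split_E r a i]
      exact Dvd.dvd.mul_right (pow_dvd_pow _ hn) _
  · rw [if_neg hn]
    rw [if_neg] at h
    · omega
    · rintro ⟨-, h2⟩
      have h3 : (X - C (r i)) ^ a i * (X - C (r i)) ∣ (X - C (r i)) ^ a i * Ei r a i := by
        rw [split_E, ← pow_succ]
        exact dvd_trans (pow_dvd_pow _ (by omega)) (mem_dvdAt.mp h2)
      exact eval_Ei_ne_zero r a hr i (dvd_iff_isRoot.mp
        ((mul_dvd_mul_iff_left (pow_ne_zero _ (X_sub_C_ne_zero _))).mp h3))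

theorem finrank_V_inf_degreeLT (n : ℕ) :
    Module.finrank k ↥(V r a b ⊓ degreeLT k ((∑ j, a j) + b + m - n)) =
      if n ≤ b then (∑ j, a j) + b - n else (∑ j, a j) + b + 1 - n := by
  classical
  by_cases hn : n ≤ (∑ j, a j) + b
  · rw [show (∑ j, a j) + b + m - n = ((∑ j, a j) + b - n) + m by omega,
      V_inf_degreeLT r a hr b _ (by omega)]
    have h := finrank_map_L r a hr _ (by omega : ∑ j, a j < (∑ j, a j) + b + 1)
      (degreeLT k ((∑ j, a j) + b - n + 1)) (degreeLT_mono (by omega))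
    rw [finrank_degreeLT] at h
    by_cases hb : n ≤ b
    · rw [if_pos hb]
      rw [if_pos (E_mem_degreeLT r a (by omega))] at h
      omega
    · rw [if_neg hb]
      rw [if_neg] at h
      · omega
      · intro h2
        rw [mem_degreeLT, degree_eq_natDegree (monic_E r a).ne_zero, natDegree_E] at h2
        have h2' : ∑ j, a j < (∑ j, a j) + b - n + 1 := by exact_mod_cast h2
        omega
  · rw [if_neg (by omega : ¬ n ≤ b), Submodule.finrank_eq_zero.mpr]
    · omega
    · rw [eq_bot_iff, ← (show (degreeLT k 1).map (L r a) ⊓ degreeLT k m.pred = ⊥ from ?_)]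
      · rintro x ⟨hx, hx'⟩
        have hlt : (∑ j, a j) + b + m - n ≤ m.pred := by simp; omega
        have hxm : x ∈ degreeLT k (0 + m) := degreeLT_mono (by simp; omega) hx'
        refine ⟨?_, degreeLT_mono hlt hx'⟩
        have := V_inf_degreeLT r a hr b 0 (Nat.zero_le _)
        rw [zero_add] at hxm
        rw [zero_add, zero_add] at this
        exact this ▸ ⟨hx, hxm⟩
      · rw [eq_bot_iff]
        rintro _ ⟨⟨F, hF, rfl⟩, hd⟩
        rw [Submodule.mem_bot]
        have hF0 : F.natDegree = 0 := by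
          rw [natDegree_eq_zero_iff_degree_le_zero, ← Nat.WithBot.lt_one_iff_le_zero]
          exact mem_degreeLT.mp hF
        rw [eq_C_of_natDegree_eq_zero hF0] at hd ⊢
        by_cases hc : F.coeff 0 * ((∑ j, a j : ℕ) : k) = 0
        · rcases mul_eq_zero.mp hc with h | h
          · simp [h]
          · have hz : S r a = 0 := by
              refine Finset.sum_eq_zero fun j _ => ?_
              have : a j = 0 := Finset.sum_eq_zero_iff.mp (Nat.cast_eq_zero.mp h) j (Finset.mem_univ j)
              simp [this]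
            simp [L_apply, hz]
        · exfalso
          have hm : 0 < m := by
            by_contra h0
            obtain rfl : m = 0 := by omega
            simp at hc
          refine hc ?_
          have h1 := coeff_L_top r a 0 (F := C (F.coeff 0)) (by simp) (by omega)
          rw [(mem_degreeLT_iff').mp hd _ (by simp)] at h1
          simp at h1
          rcases h1 with h1 | h1 <;> simp [h1]

end Groth.Agent.DivWronsk
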